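import Groth.Agent.AnisoTorus21.Split
import Groth.Agent.Lib.TorusPts.Model
import Mathlib.LinearAlgebra.Matrix.GeneralLinearGroup.Defs
import Mathlib.LinearAlgebra.Matrix.ToLin
import Mathlib.Algebra.Polynomial.Splits

/-!
# The Galois action on the characters of a torus, and rational points
-/

set_option autoImplicit false
set_option backward.isDefEq.respectTransparency false

universe u

open CategoryTheory MonoidalCategory CartesianMonoidalCategory MonObj GrpObj AlgebraicGeometry
open GrothLib.TorusPts
open scoped Matrix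

namespace Groth.Agent.AnisoTorus21

variable {K : Type u} [Field K] {n : ℕ} {T : Over (Spec (CommRingCat.of K))} [GrpObj T]
  {L : Type u} [Field L] [Algebra K L]
  (e : Grp.mk (Red.bc (Spec.map (CommRingCat.ofHom (algebraMap K L))) T) ≅
    Grp.mk (Red.DS (Spec (CommRingCat.of L)) (Fin n → ℤ)))

omit [Field K] in
theorem algEquiv_comp_algebraMap [Field K] [Algebra K L] (σ : L ≃ₐ[K] L) :
    (σ : L →+* L).comp (algebraMap K L) = algebraMap K L := RingHom.ext σ.commutes

/-- The permutation of the characters by an automorphism of the splitting field. -/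
noncomputable def twist (σ : L ≃ₐ[K] L) : Multiplicative (Fin n → ℤ) → Multiplicative (Fin n → ℤ) :=
  (exists_twist e (σ : L →+* L) (algEquiv_comp_algebraMap σ)).choose

theorem coord_twist (σ : L ≃ₐ[K] L) (C : Type u) [CommRing C] (j : L →+* C) (i : K →+* C)
    (hj : j.comp (algebraMap K L) = i) (x : Pts T i) (m : Multiplicative (Fin n → ℤ)) :
    coord e (j.comp (σ : L →+* L)) (by rw [RingHom.comp_assoc, algEquiv_comp_algebraMap, hj]) x m =
      coord e j hj x (twist e σ m) :=
  (exists_twist e (σ : L →+* L) (algEquiv_comp_algebraMap σ)).choose_spec C j i hj x m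

theorem coord_congr {C : Type u} [CommRing C] {j j' : L →+* C} (hjj : j = j') {i : K →+* C}
    (hj : j.comp (algebraMap K L) = i) (x : Pts T i) :
    coord e j hj x = coord e j' (hjj ▸ hj) x := by subst hjj; rfl

/-- The universal point. -/
noncomputable def univPt : Pts T ((algebraMap L (AddMonoidAlgebra L (Fin n → ℤ))).comp (algebraMap K L)) :=
  (coord e (algebraMap L (AddMonoidAlgebra L (Fin n → ℤ))) rfl).symm (AddMonoidAlgebra.of L (Fin n → ℤ))

theorem coord_univPt (m : Multiplicative (Fin n → ℤ)) :
    coord e (algebraMap L (AddMonoidAlgebra L (Fin n → ℤ))) rfl (univPt e) m =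
      AddMonoidAlgebra.of L (Fin n → ℤ) m := by
  rw [univPt, MulEquiv.apply_symm_apply]

theorem twist_mul (σ : L ≃ₐ[K] L) (a b : Multiplicative (Fin n → ℤ)) :
    twist e σ (a * b) = twist e σ a * twist e σ b := by
  apply AddMonoidAlgebra.of_injective (R := L)
  rw [map_mul, ← coord_univPt e, ← coord_univPt e, ← coord_univPt e, ← coord_twist, ← coord_twist, ← coord_twist,
    map_mul]

theorem twist_one_apply (m : Multiplicative (Fin n → ℤ)) : twist e (1 : L ≃ₐ[K] L) m = m := by
  apply AddMonoidAlgebra.of_injective (R := L)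
  rw [← coord_univPt e, ← coord_univPt e, ← coord_twist]
  exact DFunLike.congr_fun (coord_congr e (RingHom.comp_id _) _ _) m

theorem twist_comp (σ τ : L ≃ₐ[K] L) (m : Multiplicative (Fin n → ℤ)) :
    twist e (σ * τ) m = twist e σ (twist e τ m) := by
  apply AddMonoidAlgebra.of_injective (R := L)
  rw [← coord_univPt e, ← coord_univPt e, ← coord_twist, ← coord_twist, ← coord_twist]
  exact DFunLike.congr_fun (coord_congr e rfl _ _) m

/-- The Galois action as endomorphisms of the lattice. -/
noncomputable def repEnd : (L ≃ₐ[K] L) →* Module.End ℤ (Fin n → ℤ) where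
  toFun σ := AddMonoidHom.toIntLinearMap
    (AddMonoidHom.mk' (fun m => Multiplicative.toAdd (twist e σ (Multiplicative.ofAdd m))) fun a b => by
      rw [ofAdd_add, twist_mul, toAdd_mul])
  map_one' := LinearMap.ext fun m => congrArg Multiplicative.toAdd (twist_one_apply e _)
  map_mul' σ τ := LinearMap.ext fun m => congrArg Multiplicative.toAdd (twist_comp e σ τ _)

/-- The Galois action as integer matrices. -/
noncomputable def repMat : (L ≃ₐ[K] L) →* Matrix (Fin n) (Fin n) ℤ :=
  (LinearMap.toMatrixAlgEquiv' : Module.End ℤ (Fin n → ℤ) ≃ₐ[ℤ] _).toAlgHom.toRingHom.toMonoidHom.comp (repEnd e)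

theorem repMat_mulVec (σ : L ≃ₐ[K] L) (m : Fin n → ℤ) :
    repMat e σ *ᵥ m = Multiplicative.toAdd (twist e σ (Multiplicative.ofAdd m)) := by
  show LinearMap.toMatrixAlgEquiv' (repEnd e σ) *ᵥ m = repEnd e σ m
  rw [← Matrix.toLinAlgEquiv'_apply, Matrix.toLinAlgEquiv'_toMatrixAlgEquiv']

/-- The image of the Galois group in `GL n ℤ`. -/
noncomputable def image : Subgroup (Matrix.GeneralLinearGroup (Fin n) ℤ) :=
  (MonoidHom.toHomUnits (repMat e)).range

instance finite_image [FiniteDimensional K L] : Finite (image e) :=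
  inferInstanceAs (Finite (Set.range (MonoidHom.toHomUnits (repMat e))))

/-- Rational points as points with values in the field. -/
noncomputable def ptK : (𝟙_ (Over (Spec (CommRingCat.of K))) ⟶ T) →* Pts T (RingHom.id K) where
  toFun x := (Over.homMk (𝟙 _) (by
      show 𝟙 _ ≫ 𝟙 _ = Spec.map (CommRingCat.ofHom (RingHom.id K))
      rw [CommRingCat.ofHom_id, Spec.map_id, Category.id_comp]) :
        Over.mk (Spec.map (CommRingCat.ofHom (RingHom.id K))) ⟶ 𝟙_ (Over (Spec (CommRingCat.of K)))) ≫ x
  map_one' := MonObj.comp_one _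
  map_mul' a b := MonObj.comp_mul _ _ _

theorem ptK_injective : Function.Injective (ptK (K := K) (T := T)) := fun x y h => by
  apply Over.OverMorphism.ext
  exact (Category.id_comp _).symm.trans ((congrArg Over.Hom.left h).trans (Category.id_comp _))

/-- Rational points as characters. -/
noncomputable def toChar :
    (𝟙_ (Over (Spec (CommRingCat.of K))) ⟶ T) →* (Multiplicative (Fin n → ℤ) →* L) :=
  (coord e (RingHom.id L) (RingHom.id_comp (algebraMap K L))).toMonoidHom.comp
    ((pull (algebraMap K L) (RingHom.comp_id _)).comp ptK)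

theorem toChar_injective [Module.Free K L] : Function.Injective (toChar e) := by
  haveI : IsAffine T.left := isAffine_of_splitting e
  intro x y hxy
  have h1 : pull (algebraMap K L) (RingHom.comp_id _) (ptK x) = pull (algebraMap K L) (RingHom.comp_id _) (ptK y) :=
    (coord e (RingHom.id L) (RingHom.id_comp (algebraMap K L))).injective hxy
  have h2 := congrArg ev h1
  rw [ev_pull, ev_pull] at h2
  exact ptK_injective (ev_injective _ _ (CommRingCat.hom_ext (RingHom.ext fun b =>
    (algebraMap K L).injective (congrArg (fun q : Γ(T.left, ⊤) ⟶ CommRingCat.of L => q b) h2))))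

theorem algEquiv_toChar (σ : L ≃ₐ[K] L) (x : 𝟙_ (Over (Spec (CommRingCat.of K))) ⟶ T) (m : Fin n → ℤ) :
    σ (toChar e x (Multiplicative.ofAdd m)) = toChar e x (Multiplicative.ofAdd (repMat e σ *ᵥ m)) := by
  rw [repMat_mulVec, ofAdd_toAdd]
  let y : Pts T (algebraMap K L) := pull (algebraMap K L) (RingHom.comp_id _) (ptK x)
  show σ (coord e (RingHom.id L) (RingHom.id_comp _) y (Multiplicative.ofAdd m)) =
    coord e (RingHom.id L) (RingHom.id_comp _) y (twist e σ (Multiplicative.ofAdd m))
  rw [← coord_twist]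
  have hy : pull (σ : L →+* L) (algEquiv_comp_algebraMap σ) y = y := by
    rw [pull_pull]
    exact pull_congr (algEquiv_comp_algebraMap σ) _ _
  have h := coord_pull e (RingHom.id L) ((RingHom.id L).comp (σ : L →+* L)) (RingHom.id_comp _)
    (by rw [RingHom.id_comp, algEquiv_comp_algebraMap]) (σ : L →+* L) (algEquiv_comp_algebraMap σ) rfl y
  rw [hy] at h
  exact (DFunLike.congr_fun h _).symm

/-- Torsion points give characters invariant under the image of Galois, when the roots of unity are rational. -/
theorem toChar_invariant {N : ℕ} (hroots : ∀ z : L, z ^ N = 1 → z ∈ Set.range (algebraMap K L))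
    (x : 𝟙_ (Over (Spec (CommRingCat.of K))) ⟶ T) (hx : x ^ N = 1)
    (h : Matrix.GeneralLinearGroup (Fin n) ℤ) (hh : h ∈ image e) (m : Fin n → ℤ) :
    toChar e x (Multiplicative.ofAdd ((h : Matrix (Fin n) (Fin n) ℤ) *ᵥ m)) =
      toChar e x (Multiplicative.ofAdd m) := by
  obtain ⟨σ, rfl⟩ := hh
  rw [MonoidHom.coe_toHomUnits, ← algEquiv_toChar]
  obtain ⟨a, ha⟩ := hroots (toChar e x (Multiplicative.ofAdd m)) (by
    rw [← MonoidHom.pow_apply, ← map_pow, hx, map_one, MonoidHom.one_apply])
  rw [← ha, AlgEquiv.commutes]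

theorem range_of_splits {N : ℕ} (hN : 0 < N) (h : (Polynomial.X ^ N - 1 : Polynomial K).Splits) (z : L)
    (hz : z ^ N = 1) : z ∈ Set.range (algebraMap K L) := by
  have h0 : (Polynomial.X ^ N - 1 : Polynomial K) ≠ 0 := by
    simpa using Polynomial.X_pow_sub_C_ne_zero hN (1 : K)
  exact h.mem_range_of_isRoot h0 (by simp [Polynomial.IsRoot, hz])

theorem range_of_primitive {d : ℕ} (hd : 0 < d) {ζ : K} (hζ : IsPrimitiveRoot ζ d) (z : L) (hz : z ^ d = 1) :
    z ∈ Set.range (algebraMap K L) := by
  haveI : NeZero d := ⟨hd.ne'⟩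
  obtain ⟨i, -, hi⟩ := (hζ.map_of_injective (algebraMap K L).injective).eq_pow_of_pow_eq_one hz
  exact ⟨ζ ^ i, by rw [map_pow, hi]⟩

end Groth.Agent.AnisoTorus21
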