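import Groth.Agent.AnisoTorus21.Action
import Groth.Agent.Lib.QuotTorus14.Basic
import Groth.Agent.Lib.DiagGrp.SubgroupEq
import Mathlib.RingTheory.TensorProduct.Basic
import Mathlib.RingTheory.Flat.FaithfullyFlat.Basic

/-!
# Invariant characters give split subtori
-/

set_option autoImplicit false
set_option backward.isDefEq.respectTransparency false

universe u

open CategoryTheory MonoidalCategory CartesianMonoidalCategory MonObj GrpObj AlgebraicGeometry
open GrothLib.TorusPts
open scoped TensorProduct Matrix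

namespace Groth.Agent.AnisoTorus21

variable {K : Type u} [Field K] {n : ℕ} {T : Over (Spec (CommRingCat.of K))} [GrpObj T]
  {L : Type u} [Field L] [Algebra K L]
  (e : Grp.mk (Red.bc (Spec.map (CommRingCat.ofHom (algebraMap K L))) T) ≅
    Grp.mk (Red.DS (Spec (CommRingCat.of L)) (Fin n → ℤ)))

theorem mem_range_mapRingHom {A B : Type u} [CommRing A] [CommRing B] {G : Type} [AddCommGroup G] (f : A →+* B)
    (x : AddMonoidAlgebra B G) (hx : ∀ g, x.coeff g ∈ Set.range f) :
    x ∈ (AddMonoidAlgebra.mapRingHom G f).range := by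
  rw [← AddMonoidAlgebra.sum_coeff_single x]
  refine sum_mem fun g _ => ?_
  obtain ⟨a, ha⟩ := hx g
  exact ⟨AddMonoidAlgebra.single g a, by rw [AddMonoidAlgebra.mapRingHom_single, ha]⟩

theorem mapRingHom_injective {A B : Type u} [CommRing A] [CommRing B] {G : Type} [AddCommGroup G] (f : A →+* B)
    (hf : Function.Injective f) : Function.Injective (AddMonoidAlgebra.mapRingHom G f) := by
  intro x y h
  refine AddMonoidAlgebra.coeff_injective (Finsupp.ext fun g => hf ?_)
  rw [← AddMonoidAlgebra.coeff_mapRingHom, ← AddMonoidAlgebra.coeff_mapRingHom, h]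

theorem mapRingHom_comp_algebraMap {A B R : Type u} [CommRing A] [CommRing B] [CommRing R] {G : Type} [AddCommGroup G]
    (f : A →+* B) (g : R →+* A) (a : R) :
    AddMonoidAlgebra.mapRingHom G f ((algebraMap A (AddMonoidAlgebra A G)).comp g a) =
      algebraMap B (AddMonoidAlgebra B G) (f (g a)) := by
  simp [AddMonoidAlgebra.coe_algebraMap, AddMonoidAlgebra.mapRingHom_single]

/-- An invariant character defines a point with values in the Laurent polynomials. -/
theorem exists_univ [FiniteDimensional K L] [IsGalois K L] (lam : (Fin n → ℤ) →+ ℤ)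
    (hlam : ∀ (σ : L ≃ₐ[K] L) (m : Fin n → ℤ), lam (repMat e σ *ᵥ m) = lam m) :
    ∃ u : Pts T (algebraMap K (AddMonoidAlgebra K ℤ)),
      coord e (algebraMap L (AddMonoidAlgebra L ℤ)) rfl
        (pull (AddMonoidAlgebra.mapRingHom ℤ (algebraMap K L))
          (RingHom.ext fun a => mapRingHom_comp_algebraMap (algebraMap K L) (RingHom.id K) a) u) =
        (AddMonoidAlgebra.of L ℤ).comp lam.toMultiplicative := by
  haveI : IsAffine T.left := isAffine_of_splitting e
  set j' := algebraMap L (AddMonoidAlgebra L ℤ) with hj'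
  set χ' := (AddMonoidAlgebra.of L ℤ).comp lam.toMultiplicative with hχ'
  let y : Pts T (j'.comp (algebraMap K L)) := (coord e j' rfl).symm χ'
  have hy : coord e j' rfl y = χ' := MulEquiv.apply_symm_apply _ _
  have hfix : ∀ σ : L ≃ₐ[K] L, ev y ≫ CommRingCat.ofHom (AddMonoidAlgebra.mapRingHom ℤ (σ : L →+* L)) = ev y := by
    intro σ
    let σC := AddMonoidAlgebra.mapRingHom ℤ (σ : L →+* L)
    have h1 : σC.comp j' = j'.comp (σ : L →+* L) :=
      RingHom.ext fun a => mapRingHom_comp_algebraMap (σ : L →+* L) (RingHom.id L) a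
    have h2 : σC.comp (j'.comp (algebraMap K L)) = j'.comp (algebraMap K L) := by
      rw [← RingHom.comp_assoc, h1, RingHom.comp_assoc, algEquiv_comp_algebraMap]
    rw [← ev_pull σC h2 y]
    refine congrArg ev ((coord e (j'.comp (σ : L →+* L))
      (by rw [RingHom.comp_assoc, algEquiv_comp_algebraMap])).injective ?_)
    rw [coord_pull e j' (j'.comp (σ : L →+* L)) rfl _ σC h2 h1 y, hy]
    refine MonoidHom.ext fun m => ?_
    rw [coord_twist e σ _ j' (j'.comp (algebraMap K L)) rfl y m, hy]
    show σC (AddMonoidAlgebra.of L ℤ (lam.toMultiplicative m)) = χ' (twist e σ m)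
    have h3 : lam.toMultiplicative (twist e σ m) = lam.toMultiplicative m :=
      congrArg Multiplicative.ofAdd ((congrArg lam (repMat_mulVec e σ (Multiplicative.toAdd m))).symm.trans (hlam σ _))
    rw [hχ', MonoidHom.comp_apply, h3]
    show AddMonoidAlgebra.mapRingHom ℤ (σ : L →+* L) (AddMonoidAlgebra.single _ 1) = AddMonoidAlgebra.single _ 1
    rw [AddMonoidAlgebra.mapRingHom_single, map_one]
  have hi : (AddMonoidAlgebra.mapRingHom ℤ (algebraMap K L)).comp (algebraMap K (AddMonoidAlgebra K ℤ)) =
      j'.comp (algebraMap K L) :=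
    RingHom.ext fun a => mapRingHom_comp_algebraMap (algebraMap K L) (RingHom.id K) a
  obtain ⟨u, hu⟩ := exists_pull_eq (AddMonoidAlgebra.mapRingHom ℤ (algebraMap K L)) hi
    (mapRingHom_injective _ (algebraMap K L).injective) y fun b => mem_range_mapRingHom _ _ fun g =>
      (IsGalois.mem_range_algebraMap_iff_fixed _).mpr fun σ => by
        have h := congrArg (fun q : Γ(T.left, ⊤) ⟶ CommRingCat.of (AddMonoidAlgebra L ℤ) =>
          AddMonoidAlgebra.coeff (q b) g) (hfix σ)
        exact (AddMonoidAlgebra.coeff_mapRingHom _ _ _).symm.trans h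
  exact ⟨u, by rw [hu, hy]⟩

section Morph

variable (u : Pts T (algebraMap K (AddMonoidAlgebra K ℤ)))

/-- The ring map attached to a unit. -/
noncomputable def evalHom {C : Type u} [CommRing C] (i : K →+* C) (c : Multiplicative ℤ →* C) :
    AddMonoidAlgebra K ℤ →+* C :=
  letI := i.toAlgebra
  (AddMonoidAlgebra.lift K C ℤ c).toRingHom

omit [GrpObj T] in
theorem evalHom_comp {C : Type u} [CommRing C] (i : K →+* C) (c : Multiplicative ℤ →* C) :
    (evalHom i c).comp (algebraMap K (AddMonoidAlgebra K ℤ)) = i :=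
  letI := i.toAlgebra
  (AddMonoidAlgebra.lift K C ℤ c).comp_algebraMap

omit [GrpObj T] in
theorem evalHom_single_zero {C : Type u} [CommRing C] (i : K →+* C) (c : Multiplicative ℤ →* C) (a : K) :
    evalHom i c (AddMonoidAlgebra.single 0 a) = i a :=
  RingHom.congr_fun (evalHom_comp i c) a

omit [GrpObj T] in
theorem evalHom_single_one {C : Type u} [CommRing C] (i : K →+* C) (c : Multiplicative ℤ →* C) (g : ℤ) :
    evalHom i c (AddMonoidAlgebra.single g 1) = c (Multiplicative.ofAdd g) :=
  letI := i.toAlgebra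
  AddMonoidAlgebra.lift_of c (Multiplicative.ofAdd g)

/-- The value at an affine point of the morphism `𝔾_m ⟶ T` attached to `u`. -/
noncomputable def evalPt {C : Type u} [CommRing C] {i : K →+* C} (c : Multiplicative ℤ →* C) : Pts T i :=
  pull (evalHom i c) (evalHom_comp i c) u

theorem pull_evalPt {C C' : Type u} [CommRing C] [CommRing C'] {i : K →+* C} {i' : K →+* C'} (h : C →+* C')
    (hh : h.comp i = i') (c : Multiplicative ℤ →* C) :
    pull h hh (evalPt u c) = (evalPt u ((h : C →* C').comp c) : Pts T i') := by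
  rw [evalPt, evalPt, pull_pull]
  refine pull_congr ?_ _ _
  refine AddMonoidAlgebra.ringHom_ext (fun a => ?_) fun g => ?_
  · rw [RingHom.comp_apply, evalHom_single_zero, evalHom_single_zero]
    exact RingHom.congr_fun hh a
  · rw [RingHom.comp_apply, evalHom_single_one, evalHom_single_one]
    rfl

variable {u}

theorem coord_evalPt {lam : (Fin n → ℤ) →+ ℤ}
    (hu : coord e (algebraMap L (AddMonoidAlgebra L ℤ)) rfl
        (pull (AddMonoidAlgebra.mapRingHom ℤ (algebraMap K L))
          (RingHom.ext fun a => mapRingHom_comp_algebraMap (algebraMap K L) (RingHom.id K) a) u) =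
        (AddMonoidAlgebra.of L ℤ).comp lam.toMultiplicative)
    {C : Type u} [CommRing C] (j : L →+* C) {i : K →+* C} (hj : j.comp (algebraMap K L) = i)
    (c : Multiplicative ℤ →* C) :
    coord e j hj (evalPt u c) = c.comp lam.toMultiplicative := by
  let φ' := evalHom j c
  have h1 : φ'.comp (algebraMap L (AddMonoidAlgebra L ℤ)) = j := evalHom_comp j c
  have h2 : φ'.comp ((algebraMap L (AddMonoidAlgebra L ℤ)).comp (algebraMap K L)) = i := by
    rw [← RingHom.comp_assoc, h1, hj]
  have h3 : pull φ' h2 (pull (AddMonoidAlgebra.mapRingHom ℤ (algebraMap K L))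
          (RingHom.ext fun a => mapRingHom_comp_algebraMap (algebraMap K L) (RingHom.id K) a) u) = evalPt u c := by
    rw [evalPt, pull_pull]
    refine pull_congr ?_ _ _
    refine AddMonoidAlgebra.ringHom_ext (fun a => ?_) fun g => ?_
    · rw [RingHom.comp_apply, AddMonoidAlgebra.mapRingHom_single]
      show evalHom j c _ = _
      rw [evalHom_single_zero, evalHom_single_zero]
      exact RingHom.congr_fun hj a
    · rw [RingHom.comp_apply, AddMonoidAlgebra.mapRingHom_single, map_one]
      show evalHom j c _ = _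
      rw [evalHom_single_one, evalHom_single_one]
  rw [← h3, coord_pull e (algebraMap L (AddMonoidAlgebra L ℤ)) j rfl hj φ' h2 h1, hu]
  refine MonoidHom.ext fun m => ?_
  exact evalHom_single_one j c _

end Morph

/-- A surjective invariant character gives a split subtorus. -/
theorem exists_mono_Gm [FiniteDimensional K L] [IsGalois K L] (lam : (Fin n → ℤ) →+ ℤ)
    (hsurj : Function.Surjective lam)
    (hlam : ∀ (σ : L ≃ₐ[K] L) (m : Fin n → ℤ), lam (repMat e σ *ᵥ m) = lam m) :
    ∃ i : Red.Gm (Spec (CommRingCat.of K)) ⟶ T, IsMonHom i ∧ Mono i := by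
  haveI : IsAffine T.left := isAffine_of_splitting e
  obtain ⟨u, hu⟩ := exists_univ e lam hlam
  let S := Spec (CommRingCat.of K)
  let G := Red.DS S ℤ
  haveI : IsAffine (Red.diag (ULift.{u} ℤ) ℤ).left :=
    inferInstanceAs (IsAffine (Spec (CommRingCat.of (MonoidAlgebra (ULift.{u} ℤ) (Multiplicative ℤ)))))
  haveI : IsAffineHom (Red.diag (ULift.{u} ℤ) ℤ).hom := isAffineHom_of_isAffine _
  haveI : IsAffineHom G.hom := inferInstanceAs (IsAffineHom (Limits.pullback.snd (Red.diag (ULift.{u} ℤ) ℤ).hom _))
  haveI : IsAffine G.left := isAffine_of_isAffineHom G.hom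
  let t₀ : Pts G (strMap G) := mkPt G (RingHom.id _) (RingHom.id_comp _)
  let c₀ := (GrothLib.DiagGrp.dsPoint ℤ _).symm t₀
  haveI : IsIso t₀ := by
    haveI : IsIso t₀.left := by
      show IsIso (Spec.map (CommRingCat.ofHom (RingHom.id _)) ≫ G.left.isoSpec.inv)
      rw [CommRingCat.ofHom_id, Spec.map_id]
      infer_instance
    haveI : IsIso ((Over.forget _).map t₀) := ‹IsIso t₀.left›
    exact isIso_of_reflects_iso t₀ (Over.forget _)
  let i : G ⟶ T := inv t₀ ≫ evalPt u c₀
  have key : ∀ {C : Type u} [CommRing C] (p : Spec (CommRingCat.of C) ⟶ S) (t : Over.mk p ⟶ G)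
      (φ : K →+* C) (hp : Spec.map (CommRingCat.ofHom φ) = p),
      t ≫ i = (by subst hp; exact evalPt u ((GrothLib.DiagGrp.dsPoint ℤ _).symm t)) := by
    intro C _ p t φ hp
    subst hp
    dsimp only
    have ht : pull (ev t).hom (ev_comp_strMap t) t₀ = t := by
      apply ev_injective
      rw [ev_pull]
      refine CommRingCat.hom_ext ?_
      rw [CommRingCat.hom_comp, ev_mkPt]
      exact RingHom.comp_id _
    have hc : (GrothLib.DiagGrp.dsPoint ℤ _).symm t = ((ev t).hom : _ →* C).comp c₀ := by
      rw [MulEquiv.symm_apply_eq]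
      refine ht.symm.trans ?_
      rw [← GrothLib.DiagGrp.dsPoint_comp (Spec.map (CommRingCat.ofHom (strMap G))) _ (ev t).hom c₀ (by
        rw [← Spec.map_comp, ← CommRingCat.ofHom_comp, ev_comp_strMap]), MulEquiv.apply_symm_apply]
      rfl
    calc t ≫ i = pull (ev t).hom (ev_comp_strMap t) t₀ ≫ i := by rw [ht]
      _ = pull (ev t).hom (ev_comp_strMap t) (evalPt u c₀) := by
        show (_ ≫ t₀) ≫ inv t₀ ≫ evalPt u c₀ = _
        rw [Category.assoc, IsIso.hom_inv_id_assoc]
        rfl
      _ = evalPt u ((GrothLib.DiagGrp.dsPoint ℤ _).symm t) := by rw [pull_evalPt, hc]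
  have kC : ∀ (C : Type u) [CommRing C] (φ : K →+* C) (t : Pts G φ),
      letI := φ.toAlgebra
      coord e (Algebra.TensorProduct.includeLeftRingHom : L →+* L ⊗[K] C) rfl
        (pull (Algebra.TensorProduct.includeRight (R := K) (A := L)).toRingHom
          (RingHom.ext fun a => (Algebra.TensorProduct.includeRight (R := K) (A := L) (B := C)).commutes a) (t ≫ i)) =
      ((Algebra.TensorProduct.includeRight (R := K) (A := L) (B := C)).toRingHom.toMonoidHom.comp
        ((GrothLib.DiagGrp.dsPoint ℤ _).symm t)).comp lam.toMultiplicative := by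
    intro C _ φ t
    letI := φ.toAlgebra
    rw [key _ t φ rfl, pull_evalPt, coord_evalPt e hu]
    rfl
  have hinj : ∀ (C : Type u) [CommRing C] [Algebra K C],
      Function.Injective (Algebra.TensorProduct.includeRight (R := K) (A := L) (B := C)) :=
    fun C _ _ => Algebra.TensorProduct.includeRight_injective (algebraMap K L).injective
  refine ⟨i, GrothLib.DiagGrp.isMonHom_of_points i fun Y a b => GrothLib.QuotTorus14.ext_affine
    fun C _ p t => ?_, ⟨fun {Y} a b hab => GrothLib.QuotTorus14.ext_affine fun C _ p t => ?_⟩⟩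
  · obtain ⟨φ, rfl⟩ : ∃ φ : K →+* C, Spec.map (CommRingCat.ofHom φ) = p :=
      ⟨(Spec.preimage p).hom, Spec.map_preimage p⟩
    letI := φ.toAlgebra
    rw [MonObj.comp_mul, ← Category.assoc t a i, ← Category.assoc t b i, ← Category.assoc t (a * b) i, MonObj.comp_mul]
    have hR : (Algebra.TensorProduct.includeRight (R := K) (A := L) (B := C)).toRingHom.comp φ = algebraMap K (L ⊗[K] C) :=
      RingHom.ext fun a => (Algebra.TensorProduct.includeRight (R := K) (A := L) (B := C)).commutes a
    have hpinj : Function.Injective (pull (T := T) (Algebra.TensorProduct.includeRight (R := K) (A := L) (B := C)).toRingHom hR) := fun x y h => by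
      have h2 := congrArg ev h
      rw [ev_pull, ev_pull] at h2
      exact ev_injective _ _ (CommRingCat.hom_ext (RingHom.ext fun b =>
        hinj C (congrArg (fun q : Γ(T.left, ⊤) ⟶ CommRingCat.of (L ⊗[K] C) => q b) h2)))
    refine hpinj ?_
    refine (coord e (Algebra.TensorProduct.includeLeftRingHom : L →+* L ⊗[K] C) rfl).injective ?_
    rw [map_mul, map_mul]
    refine (kC C φ (t ≫ a * t ≫ b)).trans
      (Eq.trans ?_ (congrArg₂ (· * ·) (kC C φ (t ≫ a)) (kC C φ (t ≫ b))).symm)
    rw [map_mul]
    ext m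
    simp
  · obtain ⟨φ, rfl⟩ : ∃ φ : K →+* C, Spec.map (CommRingCat.ofHom φ) = p :=
      ⟨(Spec.preimage p).hom, Spec.map_preimage p⟩
    letI := φ.toAlgebra
    apply (GrothLib.DiagGrp.dsPoint ℤ (Spec.map (CommRingCat.ofHom φ))).symm.injective
    refine MonoidHom.ext fun z => hinj C ?_
    obtain ⟨m, hm⟩ := hsurj (Multiplicative.toAdd z)
    have h1 := kC C φ (t ≫ a)
    rw [Category.assoc, hab, ← Category.assoc, kC C φ (t ≫ b)] at h1
    have h2 := DFunLike.congr_fun h1 (Multiplicative.ofAdd m)
    simp only [MonoidHom.comp_apply, show lam.toMultiplicative (Multiplicative.ofAdd m) = z from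
      congrArg Multiplicative.ofAdd hm] at h2
    exact h2.symm

end Groth.Agent.AnisoTorus21
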