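import Groth.Agent.AnisoTorus21.Cochar
import Mathlib.LinearAlgebra.Matrix.Adjugate
import Mathlib.RingTheory.RootsOfUnity.Basic
import Mathlib.Algebra.CharP.Reduced

/-!
# Torsion of anisotropic tori
-/

set_option autoImplicit false
set_option backward.isDefEq.respectTransparency false

universe u

open CategoryTheory MonoidalCategory CartesianMonoidalCategory MonObj GrpObj AlgebraicGeometry
open scoped Matrix

namespace Groth.Agent.AnisoTorus21

section lattice

variable {n : ℕ} (H : Subgroup (Matrix.GeneralLinearGroup (Fin n) ℤ))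

/-- The subgroup fixes no nonzero vector. -/
def NoFixed : Prop :=
  ∀ m : Fin n → ℤ, (∀ h ∈ H, ((h : Matrix.GeneralLinearGroup (Fin n) ℤ) : Matrix (Fin n) (Fin n) ℤ) *ᵥ m = m) → m = 0

/-- The sum of an orbit is fixed. -/
theorem mulVec_sum_orbit [Fintype H] (h : H) (m : Fin n → ℤ) :
    (((h : Matrix.GeneralLinearGroup (Fin n) ℤ)) : Matrix (Fin n) (Fin n) ℤ) *ᵥ
        (∑ g : H, ((g : Matrix.GeneralLinearGroup (Fin n) ℤ) : Matrix (Fin n) (Fin n) ℤ) *ᵥ m) =
      ∑ g : H, ((g : Matrix.GeneralLinearGroup (Fin n) ℤ) : Matrix (Fin n) (Fin n) ℤ) *ᵥ m := by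
  rw [Matrix.mulVec_sum]
  refine Fintype.sum_equiv (Equiv.mulLeft h) _ _ fun g => ?_
  rw [Matrix.mulVec_mulVec]
  rfl

theorem pow_card_eq_one [Finite H] (hH : NoFixed H) {L : Type u} [CommMonoid L] (χ : Multiplicative (Fin n → ℤ) →* L)
    (hχ : ∀ h ∈ H, ∀ m : Fin n → ℤ,
      χ (Multiplicative.ofAdd (((h : Matrix.GeneralLinearGroup (Fin n) ℤ) : Matrix (Fin n) (Fin n) ℤ) *ᵥ m)) =
        χ (Multiplicative.ofAdd m))
    (m : Fin n → ℤ) : χ (Multiplicative.ofAdd m) ^ Nat.card H = 1 := by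
  classical
  haveI : Fintype H := Fintype.ofFinite H
  have h0 := hH _ fun h hh => mulVec_sum_orbit H ⟨h, hh⟩ m
  have h1 := congrArg (fun v => χ (Multiplicative.ofAdd v)) h0
  simp only [ofAdd_sum, map_prod, ofAdd_zero, map_one] at h1
  rw [Finset.prod_congr rfl fun (g : H) _ => hχ g g.2 m, Finset.prod_const, Finset.card_univ] at h1
  rwa [Nat.card_eq_fintype_card]

theorem exists_invariant_surjective [Finite H] (hH : ¬ NoFixed H) :
    ∃ lam : (Fin n → ℤ) →+ ℤ, Function.Surjective lam ∧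
      ∀ h ∈ H, ∀ m : Fin n → ℤ,
        lam (((h : Matrix.GeneralLinearGroup (Fin n) ℤ) : Matrix (Fin n) (Fin n) ℤ) *ᵥ m) = lam m := by
  classical
  haveI : Fintype H := Fintype.ofFinite H
  simp only [NoFixed, not_forall] at hH
  obtain ⟨m₀, hfix, hm₀⟩ := hH
  obtain ⟨i, hi⟩ := Function.ne_iff.mp hm₀
  let l : (Fin n → ℤ) →+ ℤ := AddMonoidHom.mk'
    (fun m => ∑ g : H, (((g : Matrix.GeneralLinearGroup (Fin n) ℤ) : Matrix (Fin n) (Fin n) ℤ) *ᵥ m) i)
    fun a b => by simp [Matrix.mulVec_add, Finset.sum_add_distrib]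
  have hinv : ∀ h ∈ H, ∀ m : Fin n → ℤ,
      l (((h : Matrix.GeneralLinearGroup (Fin n) ℤ) : Matrix (Fin n) (Fin n) ℤ) *ᵥ m) = l m := fun h hh m => by
    refine Fintype.sum_equiv (Equiv.mulRight (⟨h, hh⟩ : H)) _ _ fun g => ?_
    rw [Matrix.mulVec_mulVec]
    rfl
  obtain ⟨a, ha⟩ := Int.subgroup_cyclic l.range
  have hdvd : ∀ m, a ∣ l m := fun m => by
    have hm : l m ∈ l.range := ⟨m, rfl⟩
    rw [ha, AddSubgroup.mem_closure_singleton] at hm
    obtain ⟨k, hk⟩ := hm
    exact ⟨k, by rw [← hk, smul_eq_mul, _root_.mul_comm]⟩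
  have hl₀ : l m₀ ≠ 0 := by
    show (∑ g : H, (((g : Matrix.GeneralLinearGroup (Fin n) ℤ) : Matrix (Fin n) (Fin n) ℤ) *ᵥ m₀) i) ≠ 0
    rw [Finset.sum_congr rfl fun (g : H) _ => congrFun (hfix g g.2) i, Finset.sum_const, Finset.card_univ,
      nsmul_eq_mul]
    exact mul_ne_zero (Nat.cast_ne_zero.mpr Fintype.card_ne_zero) hi
  have ha0 : a ≠ 0 := by
    rintro rfl
    exact hl₀ (zero_dvd_iff.mp (hdvd m₀))
  refine ⟨AddMonoidHom.mk' (fun m => l m / a) fun x y => by rw [map_add, Int.add_ediv_of_dvd_left (hdvd x)],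
    fun z => ?_, fun h hh m => by simp only [AddMonoidHom.mk'_apply]; rw [hinv h hh m]⟩
  obtain ⟨m, hm⟩ : a ∈ l.range := by rw [ha]; exact AddSubgroup.mem_closure_singleton_self a
  refine ⟨z • m, ?_⟩
  simp only [AddMonoidHom.mk'_apply, map_zsmul, hm, smul_eq_mul]
  rw [Int.ediv_self ha0, _root_.mul_one]

theorem char_ext {L : Type u} [CommMonoid L] {χ χ' : Multiplicative (Fin n → ℤ) →* L}
    (h : ∀ i, χ (Multiplicative.ofAdd (Pi.single i 1)) = χ' (Multiplicative.ofAdd (Pi.single i 1))) : χ = χ' := by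
  have h2 : MonoidHom.toAdditiveRight χ.toHomUnits = MonoidHom.toAdditiveRight χ'.toHomUnits :=
    AddMonoidHom.functions_ext' _ (MonoidHom.toAdditiveRight χ.toHomUnits) (MonoidHom.toAdditiveRight χ'.toHomUnits)
      fun i => AddMonoidHom.ext_int (Additive.toMul.injective (Units.ext (by exact h i)))
  refine MonoidHom.ext fun m => ?_
  exact congrArg (fun u : Additive Lˣ => ((Additive.toMul u : Lˣ) : L))
    (DFunLike.congr_fun h2 (Multiplicative.toAdd m))

theorem card_le_pow {A : Type u} [Group A] [Finite A] {L : Type u} [Field L] {k : ℕ} (hk : 0 < k)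
    (Φ : A →* (Multiplicative (Fin n → ℤ) →* L)) (hinj : Function.Injective Φ)
    (hΦ : ∀ a (m : Fin n → ℤ), Φ a (Multiplicative.ofAdd m) ^ k = 1) : Nat.card A ≤ k ^ n := by
  classical
  let s : Finset L := (Polynomial.nthRootsFinset k (1 : L))
  have hs : ∀ a i, Φ a (Multiplicative.ofAdd (Pi.single i 1)) ∈ s := fun a i =>
    (Polynomial.mem_nthRootsFinset hk (1 : L)).mpr (hΦ a _)
  let F : A → (Fin n → s) := fun a i => ⟨_, hs a i⟩
  have hF : Function.Injective F := fun a b h => hinj (char_ext fun i => congrArg Subtype.val (congrFun h i))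
  refine (Nat.card_le_card_of_injective F hF).trans ?_
  rw [Nat.card_fun, Nat.card_fin, Nat.card_eq_fintype_card, Fintype.card_coe]
  refine Nat.pow_le_pow_left ?_ n
  exact (le_of_eq (congrArg Finset.card (Polynomial.nthRootsFinset_def k (1 : L)))).trans
    ((Multiset.toFinset_card_le _).trans (Polynomial.card_nthRoots k (1 : L)))

theorem mulVec_adjugate_dvd (A : Matrix (Fin n) (Fin n) ℤ) (m : Fin n → ℤ) :
    A.det • m = A *ᵥ (A.adjugate *ᵥ m) := by
  rw [Matrix.mulVec_mulVec, Matrix.mul_adjugate, Matrix.smul_mulVec, Matrix.one_mulVec]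

theorem pow_det_eq_one (h : Matrix.GeneralLinearGroup (Fin n) ℤ) {k : ℕ}
    (hk : ((h : Matrix (Fin n) (Fin n) ℤ) - 1).det = k) {L : Type u} [CommMonoid L]
    (χ : Multiplicative (Fin n → ℤ) →* L)
    (hχ : ∀ m : Fin n → ℤ, χ (Multiplicative.ofAdd ((h : Matrix (Fin n) (Fin n) ℤ) *ᵥ m)) = χ (Multiplicative.ofAdd m))
    (m : Fin n → ℤ) : χ (Multiplicative.ofAdd m) ^ k = 1 := by
  rw [← map_pow, ← ofAdd_nsmul, ← natCast_zsmul, ← hk, mulVec_adjugate_dvd]
  set v := ((h : Matrix (Fin n) (Fin n) ℤ) - 1).adjugate *ᵥ m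
  have h2 := congrArg χ.toHomUnits (rfl : Multiplicative.ofAdd ((h : Matrix (Fin n) (Fin n) ℤ) *ᵥ v) = _)
  have h3 : χ.toHomUnits (Multiplicative.ofAdd ((h : Matrix (Fin n) (Fin n) ℤ) *ᵥ v)) =
      χ.toHomUnits (Multiplicative.ofAdd v) := Units.ext (hχ v)
  have h4 : χ.toHomUnits (Multiplicative.ofAdd (((h : Matrix (Fin n) (Fin n) ℤ) - 1) *ᵥ v)) = 1 := by
    rw [Matrix.sub_mulVec, Matrix.one_mulVec, ofAdd_sub, map_div, h3, div_self']
  exact congrArg Units.val h4

end lattice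

section two

/-- Coefficients of the powers of a matrix of determinant one and trace `t`. -/
def chebSeq (t : ℤ) : ℕ → ℤ
  | 0 => 0
  | 1 => 1
  | k + 2 => t * chebSeq t (k + 1) - chebSeq t k

theorem chebSeq_abs_lt {t : ℤ} (ht : 3 ≤ |t|) : ∀ k, |chebSeq t k| < |chebSeq t (k + 1)|
  | 0 => by simp [chebSeq]
  | k + 1 => by
    have ih := chebSeq_abs_lt ht k
    have h1 : |t * chebSeq t (k + 1)| - |chebSeq t k| ≤ |chebSeq t (k + 2)| := by
      show _ ≤ |t * chebSeq t (k + 1) - chebSeq t k|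
      exact abs_sub_abs_le_abs_sub _ _
    rw [abs_mul] at h1
    nlinarith [abs_nonneg (chebSeq t k), abs_nonneg (chebSeq t (k+1))]

theorem sq_eq {A : Matrix (Fin 2) (Fin 2) ℤ} (hdet : A.det = 1) : A * A = (HSMul.hSMul (α := ℤ) A.trace A : Matrix (Fin 2) (Fin 2) ℤ) - 1 := by
  rw [Matrix.det_fin_two] at hdet
  ext i j
  fin_cases i <;> fin_cases j <;>
    simp only [Matrix.mul_apply, Fin.sum_univ_two, Matrix.trace_fin_two, Matrix.sub_apply, Matrix.smul_apply,
      smul_eq_mul, Matrix.one_apply] <;> norm_num <;> linarith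

theorem pow_eq_chebSeq {A : Matrix (Fin 2) (Fin 2) ℤ} (hdet : A.det = 1) :
    ∀ k, A ^ (k + 1) = chebSeq A.trace (k + 1) • A - chebSeq A.trace k • (1 : Matrix (Fin 2) (Fin 2) ℤ)
  | 0 => by simp [chebSeq]
  | k + 1 => by
    rw [pow_succ, pow_eq_chebSeq hdet k, sub_mul, smul_mul_assoc, sq_eq hdet, smul_mul_assoc, Matrix.one_mul]
    show _ = (A.trace * chebSeq A.trace (k + 1) - chebSeq A.trace k) • A - _
    module

theorem det_sub_one_bounds (h : Matrix.GeneralLinearGroup (Fin 2) ℤ) (hdet : (h : Matrix (Fin 2) (Fin 2) ℤ).det = 1)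
    (hfin : IsOfFinOrder h) (hne : h ≠ 1) :
    1 ≤ ((h : Matrix (Fin 2) (Fin 2) ℤ) - 1).det ∧ ((h : Matrix (Fin 2) (Fin 2) ℤ) - 1).det ≤ 4 := by
  set A := (h : Matrix (Fin 2) (Fin 2) ℤ) with hA
  obtain ⟨k, hk, hpow⟩ := isOfFinOrder_iff_pow_eq_one.mp hfin
  obtain ⟨k, rfl⟩ : ∃ k', k = k' + 1 := ⟨k - 1, by omega⟩
  have hAk : A ^ (k + 1) = 1 := by rw [hA, ← Units.val_pow_eq_pow_val, hpow]; rfl
  have hd : (A - 1).det = 2 - A.trace := by
    rw [Matrix.det_fin_two, Matrix.trace_fin_two]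
    rw [Matrix.det_fin_two] at hdet
    simp
    linarith
  have ht : |A.trace| ≤ 2 := by
    by_contra hc
    have h3 : 3 ≤ |A.trace| := by omega
    have hlt := chebSeq_abs_lt h3 k
    have hc0 : chebSeq A.trace (k + 1) ≠ 0 := fun h0 => by
      rw [h0, abs_zero] at hlt
      exact absurd hlt (not_lt.mpr (abs_nonneg _))
    have he := pow_eq_chebSeq hdet k
    rw [hAk] at he
    have h01 := congrFun (congrFun he 0) 1
    have h10 := congrFun (congrFun he 1) 0
    simp only [Matrix.sub_apply, Matrix.smul_apply, smul_eq_mul, Matrix.one_apply] at h01 h10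
    norm_num [hc0] at h01 h10
    rw [Matrix.det_fin_two] at hdet
    have hu : A 0 0 * A 1 1 = 1 := by nlinarith [h01, h10]
    rw [Matrix.trace_fin_two] at h3
    rcases Int.eq_one_or_neg_one_of_mul_eq_one' hu with ⟨a, b⟩ | ⟨a, b⟩ <;> rw [a, b] at h3 <;> norm_num at h3
  rw [hd]
  obtain ⟨h1, h2⟩ := abs_le.mp ht
  refine ⟨?_, by omega⟩
  by_contra hc
  have htr : A.trace = 2 := by omega
  have hc' : ∀ j, chebSeq 2 j = (j : ℤ) := by
    intro j
    induction j using Nat.strong_induction_on with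
    | _ j ih =>
      match j with
      | 0 => rfl
      | 1 => rfl
      | j + 2 =>
        show 2 * chebSeq 2 (j + 1) - chebSeq 2 j = _
        rw [ih (j + 1) (by omega), ih j (by omega)]
        push_cast
        ring
  have he := pow_eq_chebSeq hdet k
  rw [hAk, htr, hc', hc'] at he
  apply hne
  refine Units.ext ?_
  show A = 1
  refine smul_right_injective _ (show ((k + 1 : ℕ) : ℤ) ≠ 0 by omega) ?_
  show ((k + 1 : ℕ) : ℤ) • A = ((k + 1 : ℕ) : ℤ) • (1 : Matrix (Fin 2) (Fin 2) ℤ)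
  have h4 := eq_sub_iff_add_eq.mp he
  rw [← h4]
  push_cast
  module

theorem exists_bound_two (H : Subgroup (Matrix.GeneralLinearGroup (Fin 2) ℤ)) [Finite H] :
    Nat.card H ≤ 2 ∨ ∃ h ∈ H, ∃ k : ℕ, 1 ≤ k ∧ k ≤ 4 ∧ ((h : Matrix (Fin 2) (Fin 2) ℤ) - 1).det = k := by
  classical
  by_cases hc : ∃ h ∈ H, h ≠ 1 ∧ (h : Matrix (Fin 2) (Fin 2) ℤ).det = 1
  · obtain ⟨h, hh, hne, hdet⟩ := hc
    obtain ⟨h1, h4⟩ := det_sub_one_bounds h hdet
      (MonoidHom.isOfFinOrder H.subtype (isOfFinOrder_of_finite (⟨h, hh⟩ : H))) hne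
    exact Or.inr ⟨h, hh, ((h : Matrix (Fin 2) (Fin 2) ℤ) - 1).det.toNat, by omega, by omega,
      (Int.toNat_of_nonneg (by omega)).symm⟩
  · left
    push Not at hc
    have hinj : Function.Injective (Matrix.GeneralLinearGroup.det.comp H.subtype : H →* ℤˣ) := by
      refine (injective_iff_map_eq_one _).mpr fun g hg => ?_
      by_contra hne
      exact hc g g.2 (fun h => hne (Subtype.ext h)) (congrArg Units.val hg)
    refine (Nat.card_le_card_of_injective _ hinj).trans ?_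
    simp [Nat.card_eq_fintype_card]

end two

section torus

variable {K : Type u} [Field K] {n : ℕ} {T : Over (Spec (CommRingCat.of K))} [GrpObj T]

/-- The lattice data of a torus over a field. -/
theorem exists_data
    (hT : ∃ (L : Type u) (_ : Field L) (_ : Algebra K L),
      Red.IsSplitTorusWith (Fin n → ℤ) (Red.bc (Spec.map (CommRingCat.ofHom (algebraMap K L))) T)) :
    ∃ (L : Type u) (_ : Field L) (_ : Algebra K L) (H : Subgroup (Matrix.GeneralLinearGroup (Fin n) ℤ))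
      (Φ : (𝟙_ (Over (Spec (CommRingCat.of K))) ⟶ T) →* (Multiplicative (Fin n → ℤ) →* L)),
      Finite H ∧ Function.Injective Φ ∧
      (¬ NoFixed H → ∃ i : Red.Gm (Spec (CommRingCat.of K)) ⟶ T, IsMonHom i ∧ Mono i) ∧
      ∀ (N : ℕ) (x : 𝟙_ (Over (Spec (CommRingCat.of K))) ⟶ T),
        (∀ z : L, z ^ N = 1 → z ∈ Set.range (algebraMap K L)) → x ^ N = 1 → ∀ h ∈ H, ∀ m : Fin n → ℤ,
          Φ x (Multiplicative.ofAdd (((h : Matrix.GeneralLinearGroup (Fin n) ℤ) : Matrix (Fin n) (Fin n) ℤ) *ᵥ m)) =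
            Φ x (Multiplicative.ofAdd m) := by
  obtain ⟨L, _, _, _, _, ⟨e⟩⟩ := exists_galois_split K n T hT
  refine ⟨L, inferInstance, inferInstance, image e, toChar e, finite_image e, toChar_injective e, fun hfix => ?_,
    fun N x hroots hx h hh m => toChar_invariant e hroots x hx h hh m⟩
  obtain ⟨lam, hsurj, hlam⟩ := exists_invariant_surjective (image e) hfix
  exact exists_mono_Gm e lam hsurj fun σ m => by
    have h1 := hlam _ ⟨σ, rfl⟩ m
    rwa [MonoidHom.coe_toHomUnits] at h1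

variable {L : Type u} [Field L]

theorem orderOf_dvd_of_pow {A : Type u} [Group A] (Φ : A →* (Multiplicative (Fin n → ℤ) →* L))
    (hinj : Function.Injective Φ) (x : A) (k : ℕ) (h : ∀ m : Fin n → ℤ, Φ x (Multiplicative.ofAdd m) ^ k = 1) :
    orderOf x ∣ k :=
  orderOf_dvd_of_pow_eq_one (hinj (by
    rw [map_one, map_pow]
    exact MonoidHom.ext fun m => by simpa using h (Multiplicative.toAdd m)))

theorem orderOf_natCast_ne_zero [Algebra K L] {A : Type u} [Group A] (Φ : A →* (Multiplicative (Fin n → ℤ) →* L))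
    (hinj : Function.Injective Φ) (x : A) (hx : IsOfFinOrder x) : ((orderOf x : ℕ) : K) ≠ 0 := by
  intro h0
  have hp : ringChar K ∣ orderOf x := ringChar.dvd h0
  have hp0 : ringChar K ≠ 0 := fun h => hx.orderOf_pos.ne' (zero_dvd_iff.mp (h ▸ hp))
  haveI : Fact (ringChar K).Prime := ⟨(CharP.char_is_prime_or_zero K (ringChar K)).resolve_right hp0⟩
  haveI : CharP L (ringChar K) := charP_of_injective_algebraMap (algebraMap K L).injective _
  obtain ⟨k, hk⟩ := hp
  have h1 : x ^ k = 1 := hinj (by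
    rw [map_one]
    refine MonoidHom.ext fun m => frobenius_inj L (ringChar K) ?_
    rw [frobenius_def, frobenius_def, MonoidHom.one_apply, one_pow, ← MonoidHom.pow_apply, ← map_pow, ← pow_mul,
      _root_.mul_comm, ← hk, pow_orderOf_eq_one, map_one, MonoidHom.one_apply])
  have hk0 : 0 < k := Nat.pos_of_ne_zero fun h => hx.orderOf_pos.ne' (by rw [hk, h, MulZeroClass.mul_zero])
  have h2 := Nat.le_of_dvd hk0 (orderOf_dvd_of_pow_eq_one h1)
  have h3 := (Fact.out : (ringChar K).Prime).two_le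
  rw [hk] at h2
  nlinarith

end torus

end Groth.Agent.AnisoTorus21
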