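import Groth.Agent.Lib.SubTorus14.Split
import Groth.Agent.Lib.CentLoc14.EtaleChart
import Groth.Agent.Lib.Torsor21.DSPts
import Groth.Agent.Lib.DiagGrp.Torus
import Mathlib.RingTheory.Unramified.Field
import Mathlib.FieldTheory.Galois.Basic
import Mathlib.FieldTheory.Normal.Closure
import Mathlib.FieldTheory.IsSepClosed
import Mathlib.FieldTheory.IsAlgClosed.AlgebraicClosure

/-!
# Tori over a field are split by finite Galois extensions
-/

set_option autoImplicit false
set_option backward.isDefEq.respectTransparency false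

universe u

open CategoryTheory MonoidalCategory CartesianMonoidalCategory MonObj GrpObj AlgebraicGeometry
open scoped TensorProduct

namespace Groth.Agent.AnisoTorus21

open GrothLib.DiagGrp (fgM HasChartsFpqc HasChart)

/-- The isomorphism of diagonalisable groups attached to an isomorphism of character groups. -/
noncomputable def dsIso {S : Scheme.{u}} {M N : Type} [AddCommGroup M] [AddCommGroup N] (φ : N ≃+ M) :
    Grp.mk (Red.DS S M) ≅ Grp.mk (Red.DS S N) :=
  haveI := GrothLib.DiagGrp.isMonHom_DSmap S φ.toAddMonoidHom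
  Grp.mkIso
    { hom := Red.DSmap S φ.toAddMonoidHom
      inv := Red.DSmap S φ.symm.toAddMonoidHom
      hom_inv_id := by
        rw [GrothLib.Torsor21.DSmap_comp]
        apply GrothLib.Torsor21.dsFn_injective
        rw [← Category.id_comp (Red.DSmap S _), GrothLib.Torsor21.dsFn_comp_DSmap]
        refine MonoidHom.ext fun m => ?_
        simp
      inv_hom_id := by
        rw [GrothLib.Torsor21.DSmap_comp]
        apply GrothLib.Torsor21.dsFn_injective
        rw [← Category.id_comp (Red.DSmap S _), GrothLib.Torsor21.dsFn_comp_DSmap]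
        refine MonoidHom.ext fun m => ?_
        simp }
    (IsMonHom.one_hom _) (IsMonHom.mul_hom _)

/-- Base change of a splitting. -/
noncomputable def bcSplit {S W W' : Scheme.{u}} {G : Over S} [GrpObj G] {M : Type} [AddCommGroup M]
    {f : W ⟶ S} (e : Grp.mk (Red.bc f G) ≅ Grp.mk (Red.DS W M)) (g : W' ⟶ W) (f' : W' ⟶ S)
    (hf' : f' = g ≫ f) : Grp.mk (Red.bc f' G) ≅ Grp.mk (Red.DS W' M) :=
  (GrothLib.DiagGrp.bcGrpComp G f g f' hf').trans (((Over.pullback g).mapGrp.mapIso e).trans
    (GrothLib.DiagGrp.bcGrpComp (Red.diag (ULift.{u} ℤ) M) (Limits.IsTerminal.from specULiftZIsTerminal W) g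
      (Limits.IsTerminal.from specULiftZIsTerminal W') (specULiftZIsTerminal.hom_ext _ _)).symm)

theorem nonempty_addEquiv {S : Scheme.{u}} [Nonempty S] {M : Type} [AddCommGroup M] (hM : AddGroup.FG M) {n : ℕ}
    (e : Grp.mk (Red.DS S M) ≅ Grp.mk (Red.DS S (Fin n → ℤ))) : Nonempty (M ≃+ (Fin n → ℤ)) := by
  obtain ⟨s⟩ := (inferInstance : Nonempty S)
  haveI : IsMonHom e.hom.hom.hom := e.hom.hom.isMonHom_hom
  haveI : IsMonHom e.inv.hom.hom := e.inv.hom.isMonHom_hom
  haveI : IsIso e.hom.hom.hom := inferInstanceAs (IsIso ((Grp.forget _).mapIso e).hom)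
  haveI : IsIso e.inv.hom.hom := inferInstanceAs (IsIso ((Grp.forget _).mapIso e).inv)
  obtain ⟨φ, -, hφ, -, -⟩ :=
    GrothLib.SubTorus14.exists_surjective_char (GrothLib.DiagGrp.fg_int_pi n) e.hom.hom.hom s
  obtain ⟨ψ, -, hψ, -, -⟩ := GrothLib.SubTorus14.exists_surjective_char hM e.inv.hom.hom s
  have hinj : Function.Injective (ψ.comp φ) :=
    OrzechProperty.injective_of_surjective_endomorphism (ψ.comp φ).toIntLinearMap (hψ.comp hφ)
  exact ⟨(AddEquiv.ofBijective φ ⟨fun a b h => hinj (congrArg ψ h), hφ⟩).symm⟩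

/-- A torus over a field is split by a finite Galois extension. -/
theorem exists_galois_split (K : Type u) [Field K] (n : ℕ) (T : Over (Spec (CommRingCat.of K))) [GrpObj T]
    (hT : ∃ (L : Type u) (_ : Field L) (_ : Algebra K L),
      Red.IsSplitTorusWith (Fin n → ℤ) (Red.bc (Spec.map (CommRingCat.ofHom (algebraMap K L))) T)) :
    ∃ (L : Type u) (_ : Field L) (_ : Algebra K L) (_ : FiniteDimensional K L) (_ : IsGalois K L),
      Nonempty (Grp.mk (Red.bc (Spec.map (CommRingCat.ofHom (algebraMap K L))) T) ≅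
        Grp.mk (Red.DS (Spec (CommRingCat.of L)) (Fin n → ℤ))) := by
  classical
  obtain ⟨L, _, _, ⟨e⟩⟩ := hT
  haveI : Subsingleton (Spec (CommRingCat.of K)) := inferInstanceAs (Subsingleton (PrimeSpectrum K))
  have hch : HasChartsFpqc fgM T := by
    let π := Spec.map (CommRingCat.ofHom (algebraMap K L))
    haveI : Surjective π := ⟨fun x => ⟨Classical.arbitrary (PrimeSpectrum L), Subsingleton.elim _ _⟩⟩
    refine ⟨_, π, Flat.SpecMap_iff.mpr (RingHom.flat_algebraMap_iff.mpr inferInstance), inferInstance,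
      fun V hV => ⟨π ⁻¹ᵁ V, ?_, Set.image_preimage_eq _ π.surjective⟩, fun s' => ⟨⊤, trivial, ?_⟩⟩
    · haveI : Subsingleton (Spec (CommRingCat.of L)) := inferInstanceAs (Subsingleton (PrimeSpectrum L))
      exact (Set.toFinite _).isCompact
    · exact ⟨_, _, GrothLib.DiagGrp.fg_int_pi n, ⟨bcSplit e (⊤ : (Spec (CommRingCat.of L)).Opens).ι _ rfl⟩⟩
  obtain ⟨R', f, het, ⟨y, -⟩, M, _, hM, ⟨c⟩⟩ :=
    GrothLib.CentLoc14.exists_etale_chart hch (Classical.arbitrary (PrimeSpectrum K))
  letI algR : Algebra K R' := (Spec.preimage f).hom.toAlgebra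
  have hf : Spec.map (CommRingCat.ofHom (algebraMap K R')) = f := Spec.map_preimage f
  haveI : Algebra.Etale K R' := RingHom.etale_algebraMap.mp
    (HasRingHomProperty.Spec_iff.mp (hf.symm ▸ het : Etale (Spec.map (CommRingCat.ofHom (algebraMap K R')))))
  haveI : Nontrivial R' := PrimeSpectrum.nonempty_iff_nontrivial.mp ⟨y⟩
  obtain ⟨m, hm⟩ := Ideal.exists_maximal R'
  letI : Field (R' ⧸ m) := Ideal.Quotient.field m
  haveI : Algebra.FormallyUnramified K (R' ⧸ m) :=
    Algebra.FormallyUnramified.of_surjective (Ideal.Quotient.mkₐ K m) Ideal.Quotient.mk_surjective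
  haveI : Algebra.IsSeparable K (R' ⧸ m) := Algebra.FormallyUnramified.isSeparable K (R' ⧸ m)
  haveI : Module.Finite K (R' ⧸ m) := Algebra.FormallyUnramified.finite_of_free K (R' ⧸ m)
  let Ω := SeparableClosure K
  let emb : (R' ⧸ m) →ₐ[K] Ω := IsSepClosed.lift
  letI : Algebra (R' ⧸ m) Ω := emb.toRingHom.toAlgebra
  haveI : IsScalarTower K (R' ⧸ m) Ω := IsScalarTower.of_algebraMap_eq fun a => (emb.commutes a).symm
  let L' : IntermediateField K Ω := IntermediateField.normalClosure K (R' ⧸ m) Ω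
  haveI : IsGalois K L' := IsGalois.normalClosure K (R' ⧸ m) Ω
  haveI : FiniteDimensional K L' := inferInstance
  have hemb : emb.fieldRange ≤ L' := le_iSup (fun g : (R' ⧸ m) →ₐ[K] Ω => g.fieldRange) emb
  let ψ : R' →ₐ[K] L' :=
    (IntermediateField.inclusion hemb).comp (emb.rangeRestrict.comp (Ideal.Quotient.mkₐ K m))
  let c' := bcSplit c (Spec.map (CommRingCat.ofHom ψ.toRingHom))
    (Spec.map (CommRingCat.ofHom (algebraMap K L'))) (by
      rw [← hf, ← Spec.map_comp]
      exact congrArg Spec.map (CommRingCat.hom_ext (RingHom.ext fun a => (ψ.commutes a).symm)))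
  let Ω' := AlgebraicClosure L
  let emb' : L' →ₐ[K] Ω' := IsAlgClosed.lift
  let e₁ := bcSplit e (Spec.map (CommRingCat.ofHom (algebraMap L Ω')))
    (Spec.map (CommRingCat.ofHom (algebraMap K Ω'))) (by
      rw [← Spec.map_comp, IsScalarTower.algebraMap_eq K L Ω']
      rfl)
  let e₂ := bcSplit c' (Spec.map (CommRingCat.ofHom emb'.toRingHom))
    (Spec.map (CommRingCat.ofHom (algebraMap K Ω'))) (by
      rw [← Spec.map_comp]
      exact congrArg Spec.map (CommRingCat.hom_ext (RingHom.ext fun a => (emb'.commutes a).symm)))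
  haveI : Nonempty (Spec (CommRingCat.of Ω')) := inferInstanceAs (Nonempty (PrimeSpectrum Ω'))
  obtain ⟨φ⟩ := nonempty_addEquiv hM (e₂.symm.trans e₁)
  exact ⟨L', inferInstance, inferInstance, inferInstance, inferInstance,
    ⟨c'.trans (dsIso φ.symm)⟩⟩

end Groth.Agent.AnisoTorus21
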